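/-
Giraud's axioms for a topos of sheaves of sets.
-/
import Mathlib.CategoryTheory.Sites.LeftExact
import Mathlib.CategoryTheory.Sites.RegularEpi
import Mathlib.CategoryTheory.Sites.Limits
import Mathlib.CategoryTheory.Limits.VanKampen
import Mathlib.CategoryTheory.Limits.Types.Coproducts
import Mathlib.CategoryTheory.Limits.Types.Colimits
import Mathlib.CategoryTheory.Limits.Types.Pullbacks
import Mathlib.CategoryTheory.Sites.LocallySurjective
import Mathlib.CategoryTheory.Limits.FunctorCategory.Shapes.Pullbacks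
import Mathlib.CategoryTheory.Limits.Shapes.RegularMono
import Groth.Prelude.Def_SGA4a

universe u

open CategoryTheory CategoryTheory.Limits Opposite

namespace Groth.Agent.ToposLib

theorem types_discrete_isColimit_iff {ι : Type u} {F : Discrete ι ⥤ Type u} (c : Cocone F) :
    Nonempty (IsColimit c) ↔
      Function.Bijective (fun p : Σ i : ι, F.obj ⟨i⟩ => c.ι.app ⟨p.1⟩ p.2) := by
  have build : ∀ c : Cocone F,
      Function.Bijective (fun p : Σ i : ι, F.obj ⟨i⟩ => c.ι.app ⟨p.1⟩ p.2) → IsColimit c :=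
    fun c hc =>
    { desc := fun s => ↾fun x => s.ι.app ⟨((Equiv.ofBijective _ hc).symm x).1⟩
        ((Equiv.ofBijective _ hc).symm x).2
      fac := fun s j => by
        ext x
        obtain ⟨i⟩ := j
        have he : (Equiv.ofBijective _ hc).symm (c.ι.app ⟨i⟩ x) = ⟨i, x⟩ :=
          (Equiv.symm_apply_eq _).2 rfl
        change s.ι.app ⟨_⟩ ((Equiv.ofBijective _ hc).symm (c.ι.app ⟨i⟩ x)).2 = _
        rw [he]
        rfl
      uniq := fun s m hm => by
        ext x
        obtain ⟨⟨i, y⟩, rfl⟩ := hc.2 x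
        have he : (Equiv.ofBijective _ hc).symm (c.ι.app ⟨i⟩ y) = ⟨i, y⟩ :=
          (Equiv.symm_apply_eq _).2 rfl
        change m (c.ι.app ⟨i⟩ y) =
          s.ι.app ⟨_⟩ ((Equiv.ofBijective _ hc).symm (c.ι.app ⟨i⟩ y)).2
        rw [he, ← hm ⟨i⟩]
        rfl }
  refine ⟨fun ⟨hc⟩ => ?_, fun h => ⟨build c h⟩⟩
  let S : Cocone F :=
    { pt := Σ i : ι, F.obj ⟨i⟩
      ι := Discrete.natTrans fun j => ↾fun x => ⟨j.as, x⟩ }
  have hS : IsColimit S := build S Function.bijective_id
  have e : (fun p : Σ i : ι, F.obj ⟨i⟩ => c.ι.app ⟨p.1⟩ p.2) =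
      (hS.coconePointUniqueUpToIso hc).hom := by
    funext p
    exact (ConcreteCategory.congr_hom (hS.comp_coconePointUniqueUpToIso_hom hc ⟨p.1⟩) p.2).symm
  rw [e]
  exact (isIso_iff_bijective _).1 inferInstance

theorem isVanKampen_types {ι : Type u} {F : Discrete ι ⥤ Type u} {c : Cocone F}
    (hc : IsColimit c) : IsVanKampenColimit c := by
  intro F' c' α f h _
  have hb := (types_discrete_isColimit_iff c).1 ⟨hc⟩
  have comm : ∀ (i : ι) (z : F'.obj ⟨i⟩), f (c'.ι.app ⟨i⟩ z) = c.ι.app ⟨i⟩ (α.app ⟨i⟩ z) :=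
    fun i z => (ConcreteCategory.congr_hom (NatTrans.congr_app h ⟨i⟩) z).symm
  constructor
  · rintro ⟨hc'⟩ ⟨i⟩
    have hb' := (types_discrete_isColimit_iff c').1 ⟨hc'⟩
    refine (Types.isPullback_iff _ _ _ _).2 ⟨(NatTrans.congr_app h ⟨i⟩).symm, ?_, ?_⟩
    · rintro x y ⟨hxy, -⟩
      have := hb'.1 (a₁ := ⟨i, x⟩) (a₂ := ⟨i, y⟩) hxy
      simpa using this
    · intro x' y hxy
      obtain ⟨⟨k, z⟩, rfl⟩ := hb'.2 x'
      have := hb.1 (a₁ := ⟨k, α.app ⟨k⟩ z⟩) (a₂ := ⟨i, y⟩) ((comm k z).symm.trans hxy)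
      obtain ⟨rfl, h2⟩ := Sigma.mk.inj_iff.1 this
      exact ⟨z, rfl, eq_of_heq h2⟩
  · intro H
    refine (types_discrete_isColimit_iff c').2 ⟨?_, ?_⟩
    · rintro ⟨i, z⟩ ⟨k, w⟩ hzw
      have := hb.1 (a₁ := ⟨i, α.app ⟨i⟩ z⟩) (a₂ := ⟨k, α.app ⟨k⟩ w⟩)
        ((comm i z).symm.trans ((congrArg f hzw).trans (comm k w)))
      obtain ⟨rfl, h2⟩ := Sigma.mk.inj_iff.1 this
      obtain rfl := Types.ext_of_isPullback (H ⟨i⟩) hzw (eq_of_heq h2)
      rfl
    · intro x'
      obtain ⟨⟨i, y⟩, hy⟩ := hb.2 (f x')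
      obtain ⟨z, hz, -⟩ := Types.exists_of_isPullback (H ⟨i⟩) x' y hy.symm
      exact ⟨⟨i, z⟩, hz⟩

variable {C : Type u} [SmallCategory C] {J : GrothendieckTopology C}

/-- Coproducts of sheaves of sets are van Kampen. -/
theorem isVanKampen_sheaf {ι : Type u} {F : Discrete ι ⥤ Sheaf J (Type u)} {c : Cocone F}
    (hc : IsColimit c) : IsVanKampenColimit c := by
  let i := sheafToPresheaf J (Type u)
  let a := presheafToSheaf J (Type u)
  let A := sheafificationAdjunction J (Type u)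
  let c₀ := colimit.cocone (F ⋙ i)
  have h₀ : IsVanKampenColimit c₀ := isVanKampenColimit_of_evaluation _ _ fun x =>
    isVanKampen_types (isColimitOfPreserves _ (colimit.isColimit (F ⋙ i)))
  have h₁ : IsVanKampenColimit (a.mapCocone c₀) := h₀.map_reflective A
  let e : F ≅ (F ⋙ i) ⋙ a :=
    (Functor.associator _ _ _ ≪≫ Functor.isoWhiskerLeft F (asIso A.counit) ≪≫
      F.rightUnitor).symm
  have h₂ := h₁.precompose_isIso e.hom
  exact h₂.of_iso (h₂.isColimit.uniqueUpToIso hc)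

theorem hasDisjointUniversalCoproducts_sheaf :
    SGA4.HasDisjointUniversalCoproducts.{u + 1, u} (Sheaf J (Type u)) := by
  intro ι X
  let c : Cofan X := colimit.cocone (Discrete.functor X)
  let hc : IsColimit c := colimit.isColimit _
  have hvk : IsVanKampenColimit c := isVanKampen_sheaf hc
  haveI : ∀ i, Mono (c.inj i) := fun i => mono_of_cofan_isVanKampen hvk ⟨i⟩
  have hp := fun {i j : ι} (hij : i ≠ j) =>
    isPullback_initial_to_of_cofan_isVanKampen hvk ⟨i⟩ ⟨j⟩ fun h => hij (congrArg Discrete.as h)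
  exact ⟨c, hc, CoproductDisjoint.of_cofan hc (fun hij => (hp hij).cone)
    (fun hij => (hp hij).isLimit) (fun _ => initialIsInitial), hvk.isUniversal⟩

/-- Base changes of epimorphisms of sheaves are epimorphisms. -/
theorem epi_pullback_snd {A B B' : Sheaf J (Type u)} (π : A ⟶ B) [Epi π] (g : B' ⟶ B) :
    Epi (pullback.snd π g) := by
  haveI : Sheaf.IsLocallySurjective π := (Sheaf.isLocallySurjective_iff_epi π).2 inferInstance
  refine (Sheaf.isLocallySurjective_iff_epi _).1 ⟨fun {U} b => ?_⟩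
  refine J.superset_covering ?_ (Presheaf.imageSieve_mem J π.hom (g.hom.app (op U) b))
  intro V q ⟨a, ha⟩
  have hpb := (IsPullback.of_hasPullback π g).map
    (sheafToPresheaf J (Type u) ⋙ (evaluation Cᵒᵖ (Type u)).obj (op V))
  have hg : π.hom.app (op V) a = g.hom.app (op V) (B'.obj.map q.op b) :=
    ha.trans (ConcreteCategory.congr_hom (g.hom.naturality q.op) b).symm
  obtain ⟨t, -, ht⟩ := Types.exists_of_isPullback hpb a (B'.obj.map q.op b) hg
  exact ⟨t, ht⟩

theorem isEffectiveUniversalEquivRel_sheaf (R A : Sheaf J (Type u)) (p₁ p₂ : R ⟶ A)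
    (hR : SGA4.IsEquivRel p₁ p₂) : SGA4.IsEffectiveUniversalEquivRel p₁ p₂ := by
  let i := sheafToPresheaf J (Type u)
  let a := presheafToSheaf J (Type u)
  let adj := sheafificationAdjunction J (Type u)
  let P := pushout (i.map p₁) (i.map p₂)
  have hpush : IsPushout (i.map p₁) (i.map p₂) (pushout.inl _ _ : i.obj A ⟶ P) (pushout.inr _ _) :=
    IsPushout.of_hasPushout _ _
  obtain ⟨s, hs₁, hs₂⟩ := (hR A).2.refl (𝟙 A)
  have hlr : (pushout.inl _ _ : i.obj A ⟶ P) = pushout.inr _ _ := by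
    have := i.map s ≫= hpush.w
    simpa only [← Functor.map_comp_assoc, hs₁, hs₂, CategoryTheory.Functor.map_id,
      Category.id_comp] using this
  have hpull : IsPullback (i.map p₁) (i.map p₂) (pushout.inl _ _ : i.obj A ⟶ P)
      (pushout.inr _ _) := by
    refine ⟨⟨hpush.w⟩, ⟨evaluationJointlyReflectsLimits _ fun c =>
      (isLimitMapConePullbackConeEquiv _ _).symm (IsPullback.isLimit ?_)⟩⟩
    let e : ∀ K : Sheaf J (Type u),
        (a.obj (yoneda.obj (unop c)) ⟶ K) ≃ (i.obj K).obj c :=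
      fun K => (adj.homEquiv _ K).trans yonedaEquiv
    have he : ∀ {K K' : Sheaf J (Type u)} (p : K ⟶ K') (h : a.obj (yoneda.obj (unop c)) ⟶ K),
        e K' (h ≫ p) = (i.map p).app c (e K h) := by
      intro K K' p h
      change yonedaEquiv (adj.homEquiv _ K' (h ≫ p)) = _
      rw [adj.homEquiv_naturality_right]
      rfl
    let st : Setoid ((i.obj A).obj c) :=
      ⟨fun x y => ∃ r, (i.map p₁).app c r = x ∧ (i.map p₂).app c r = y, by
        have hE := (hR (a.obj (yoneda.obj (unop c)))).2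
        have key : ∀ x y, (∃ r, (i.map p₁).app c r = x ∧ (i.map p₂).app c r = y) ↔
            ∃ f, f ≫ p₁ = (e A).symm x ∧ f ≫ p₂ = (e A).symm y := by
          intro x y
          simp only [Equiv.eq_symm_apply, he]
          exact ⟨fun ⟨r, h⟩ => ⟨(e R).symm r, by simpa using h⟩, fun ⟨f, h⟩ => ⟨e R f, h⟩⟩
        refine ⟨fun x => (key x x).2 (hE.refl _), fun h => (key _ _).2 (hE.symm ((key _ _).1 h)),
          fun h h' => (key _ _).2 (hE.trans ((key _ _).1 h) ((key _ _).1 h'))⟩⟩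
    have hp' := hpush.map ((evaluation Cᵒᵖ (Type u)).obj c)
    let d := hp'.desc (↾(Quotient.mk st)) (↾(Quotient.mk st))
      (by ext r; exact Quotient.sound ⟨r, rfl, rfl⟩)
    refine (Types.isPullback_iff _ _ _ _).2
      ⟨hp'.w, ?_, ?_⟩
    · rintro r r' ⟨h₁, h₂⟩
      refine (e R).symm.injective ((hR _).1 (Prod.ext ?_ ?_))
      · refine (e A).injective ?_
        simpa [he] using h₁
      · refine (e A).injective ?_
        simpa [he] using h₂
    · intro x y hxy
      have h₁ : d ((pushout.inl (i.map p₁) (i.map p₂)).app c x) = Quotient.mk st x :=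
        ConcreteCategory.congr_hom (hp'.inl_desc _ _ _) x
      have h₂ : d ((pushout.inr (i.map p₁) (i.map p₂)).app c y) = Quotient.mk st y :=
        ConcreteCategory.congr_hom (hp'.inr_desc _ _ _) y
      exact Quotient.exact (h₁.symm.trans ((congrArg d hxy).trans h₂))
  let π : A ⟶ a.obj P := inv (adj.counit.app A) ≫ a.map (pushout.inl _ _)
  have nat : ∀ (p : R ⟶ A), a.map (i.map p) ≫ (asIso (adj.counit.app A)).hom =
      (asIso (adj.counit.app R)).hom ≫ p := fun p => adj.counit.naturality p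
  have hπ : a.map (pushout.inl _ _) ≫ (Iso.refl (a.obj P)).hom =
      (asIso (adj.counit.app A)).hom ≫ π := by
    simp [π]
    exact Category.comp_id _
  have hπ' : a.map (pushout.inr _ _) ≫ (Iso.refl (a.obj P)).hom =
      (asIso (adj.counit.app A)).hom ≫ π := hlr ▸ hπ
  have hQ : IsPushout p₁ p₂ π π :=
    (hpush.map a).of_iso _ _ _ (Iso.refl _) (nat p₁) (nat p₂) hπ hπ'
  haveI : Epi π := ⟨fun x y h => hQ.hom_ext h h⟩
  refine ⟨a.obj P, π, (hpull.map a).of_iso _ _ _ (Iso.refl _) (nat p₁) (nat p₂) hπ hπ', hQ,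
    fun B' g => ?_⟩
  haveI := epi_pullback_snd π g
  haveI : IsRegularEpi (pullback.snd π g) := IsRegularEpiCategory.regularEpiOfEpi _
  infer_instance

end Groth.Agent.ToposLib
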