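/-
Opens of an adhesive category with finite limits and their closed complements.
-/
import Mathlib
import Groth.Prelude.Def_SGA4a

universe u v

open CategoryTheory CategoryTheory.Limits

namespace Groth.Agent.ToposLib

variable {E : Type v} [Category.{u} E] [HasFiniteLimits E]
variable {U : E}

/-- Maps into an open are unique. -/
theorem open_hom_ext (hU : SGA4.IsOpen U) {W : E} (a b : W ⟶ U) : a = b := by
  haveI : Mono (terminal.from U) := hU
  exact (cancel_mono (terminal.from U)).1 (Subsingleton.elim _ _)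

theorem mono_prod_snd (hU : SGA4.IsOpen U) (X : E) : Mono (prod.snd : U ⨯ X ⟶ X) :=
  ⟨fun a b h => prod.hom_ext (open_hom_ext hU _ _) h⟩

/-- Two maps to an object of the closed complement agree as soon as the source maps to `U`. -/
theorem hom_ext_of_closed {Y : E} (hY : SGA4.closedCompl U Y) {W : E} (w : W ⟶ U)
    (a b : W ⟶ Y) : a = b := by
  haveI : IsIso (prod.fst : U ⨯ Y ⟶ U) := hY
  have h : prod.lift w a = prod.lift w b := by
    rw [← cancel_mono (prod.fst : U ⨯ Y ⟶ U)]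
    simp only [prod.lift_fst]
  simpa only [prod.lift_snd] using h =≫ prod.snd

/-- The unique map from `U` to an object of the closed complement. -/
noncomputable def toClosed {Y : E} (hY : SGA4.closedCompl U Y) : U ⟶ Y :=
  haveI : IsIso (prod.fst : U ⨯ Y ⟶ U) := hY
  inv (prod.fst : U ⨯ Y ⟶ U) ≫ prod.snd

theorem closedCompl_of_iso {X Y : E} (e : X ≅ Y) (hX : SGA4.closedCompl U X) :
    SGA4.closedCompl U Y := by
  haveI : IsIso (prod.fst : U ⨯ X ⟶ U) := hX
  change IsIso (prod.fst : U ⨯ Y ⟶ U)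
  have : (prod.fst : U ⨯ Y ⟶ U) = prod.map (𝟙 U) e.inv ≫ prod.fst := by simp
  rw [this]
  infer_instance

theorem isPullback_prod_map {X X' : E} (m : X ⟶ X') :
    IsPullback (prod.snd : U ⨯ X ⟶ X) (prod.map (𝟙 U) m) m (prod.snd : U ⨯ X' ⟶ X') :=
  IsPullback.mk' (by simp [prod.lift_fst, prod.lift_snd, prod.map_fst, prod.map_snd])
    (fun T a b h₁ h₂ => prod.hom_ext (by simpa [prod.lift_fst, prod.lift_snd, prod.map_fst, prod.map_snd] using h₂ =≫ prod.fst) h₁)
    (fun T a b hab => ⟨prod.lift (b ≫ prod.fst) a, by simp [prod.lift_fst, prod.lift_snd, prod.map_fst, prod.map_snd], prod.hom_ext (by simp [prod.lift_fst, prod.lift_snd, prod.map_fst, prod.map_snd]) (by simpa [prod.lift_fst, prod.lift_snd, prod.map_fst, prod.map_snd] using hab)⟩)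

/-- Pulling back along `U → Y'` for `Y'` in the closed complement is `U ⨯ -`. -/
theorem isPullback_toClosed (hU : SGA4.IsOpen U) {Q Y' : E} (hY' : SGA4.closedCompl U Y')
    (a : Q ⟶ Y') (h : U ⟶ Y') :
    IsPullback (prod.fst : U ⨯ Q ⟶ U) (prod.snd : U ⨯ Q ⟶ Q) h a :=
  IsPullback.mk' (hom_ext_of_closed hY' prod.fst _ _)
    (fun T p q h₁ h₂ => prod.hom_ext h₁ h₂)
    (fun T p q _ => ⟨prod.lift p q, by simp [prod.lift_fst, prod.lift_snd, prod.map_fst, prod.map_snd], by simp [prod.lift_fst, prod.lift_snd, prod.map_fst, prod.map_snd]⟩)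

section Adhesive

variable [Adhesive E]

/-- The pushout of `U ← U ⨯ X → X` lies in the closed complement. -/
theorem closedCompl_of_isPushout (hU : SGA4.IsOpen U) {X P : E} {h : U ⟶ P} {i : X ⟶ P}
    (H : IsPushout (prod.fst : U ⨯ X ⟶ U) (prod.snd : U ⨯ X ⟶ X) h i) :
    SGA4.closedCompl U P := by
  haveI := mono_prod_snd hU X
  haveI := mono_prod_snd hU P
  have vk := Adhesive.van_kampen' H
  have hh : IsPullback (prod.lift (𝟙 U) h) (𝟙 U) (prod.snd : U ⨯ P ⟶ P) h :=
    IsPullback.mk' (by simp [prod.lift_fst, prod.lift_snd, prod.map_fst, prod.map_snd]) (fun T a b _ h₂ => by simpa [prod.lift_fst, prod.lift_snd, prod.map_fst, prod.map_snd] using h₂)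
      (fun T a b hab => ⟨b, prod.hom_ext (open_hom_ext hU _ _) (by simpa [prod.lift_fst, prod.lift_snd, prod.map_fst, prod.map_snd] using hab.symm),
        by simp [prod.lift_fst, prod.lift_snd, prod.map_fst, prod.map_snd]⟩)
  have hi : IsPullback (prod.map (𝟙 U) i) (prod.snd : U ⨯ X ⟶ X) (prod.snd : U ⨯ P ⟶ P) i :=
    (isPullback_prod_map (U := U) i).flip
  have top := (vk (prod.fst : U ⨯ X ⟶ U) (𝟙 (U ⨯ X)) (prod.lift (𝟙 U) h) (prod.map (𝟙 U) i)
    (𝟙 _) (𝟙 U) prod.snd prod.snd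
    (IsPullback.of_vert_isIso ⟨by simp [prod.lift_fst, prod.lift_snd, prod.map_fst, prod.map_snd]⟩) (IsKernelPair.id_of_mono _) hh.toCommSq hi.toCommSq
    ⟨prod.hom_ext (by simp [prod.lift_fst, prod.lift_snd, prod.map_fst, prod.map_snd]) (by simpa [prod.lift_fst, prod.lift_snd, prod.map_fst, prod.map_snd] using H.w)⟩).2 ⟨hh, hi⟩
  haveI : IsIso (prod.lift (𝟙 U) h) := top.isIso_inl_of_isIso
  change IsIso (prod.fst : U ⨯ P ⟶ U)
  have e : prod.lift (𝟙 U) h ≫ prod.fst = 𝟙 U := prod.lift_fst _ _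
  rw [← IsIso.inv_eq_of_hom_inv_id e]
  infer_instance

/-- An object lies in the closed complement iff the pushout map is an isomorphism. -/
theorem closedCompl_iff_isIso (hU : SGA4.IsOpen U) {X P : E} {h : U ⟶ P} {i : X ⟶ P}
    (H : IsPushout (prod.fst : U ⨯ X ⟶ U) (prod.snd : U ⨯ X ⟶ X) h i) :
    SGA4.closedCompl U X ↔ IsIso i := by
  constructor
  · intro hX
    haveI : IsIso (prod.fst : U ⨯ X ⟶ U) := hX
    exact H.isIso_inr_of_isIso
  · intro hi
    exact closedCompl_of_iso (asIso i).symm (closedCompl_of_isPushout hU H)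

/-- If the front square is cartesian then `U ⨯ m` is an isomorphism. -/
theorem isIso_prod_map_of_isPullback {X X' P P' : E} {m : X ⟶ X'} {a : X ⟶ P}
    {b : X' ⟶ P'} {k : P ⟶ P'} (hP : SGA4.closedCompl U P) (hP' : SGA4.closedCompl U P')
    (h : IsPullback m a b k) : IsIso (prod.map (𝟙 U) m) := by
  let n : U ⨯ X' ⟶ X := h.lift prod.snd (prod.fst ≫ toClosed hP)
    (hom_ext_of_closed hP' prod.fst _ _)
  have hn : n ≫ m = prod.snd := h.lift_fst _ _ _
  refine ⟨prod.lift prod.fst n, ?_, ?_⟩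
  · refine prod.hom_ext (by simp [prod.lift_fst, prod.lift_snd, prod.map_fst, prod.map_snd]) ?_
    refine h.hom_ext ?_ (hom_ext_of_closed hP prod.fst _ _)
    simp [hn, prod.lift_fst, prod.lift_snd, prod.map_fst, prod.map_snd]
  · exact prod.hom_ext (by simp [prod.lift_fst, prod.lift_snd, prod.map_fst, prod.map_snd]) (by simp [hn, prod.lift_fst, prod.lift_snd, prod.map_fst, prod.map_snd])

/-- The square `X → X_CU` over `X' → X'_CU` is cartesian iff `U ⨯ m` is an isomorphism. -/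
theorem isPullback_iff_isIso_prod_map (hU : SGA4.IsOpen U) {X X' P P' : E} {m : X ⟶ X'}
    {h : U ⟶ P} {i : X ⟶ P} {h' : U ⟶ P'} {i' : X' ⟶ P'}
    (H : IsPushout (prod.fst : U ⨯ X ⟶ U) (prod.snd : U ⨯ X ⟶ X) h i)
    (H' : IsPushout (prod.fst : U ⨯ X' ⟶ U) (prod.snd : U ⨯ X' ⟶ X') h' i')
    {k : P ⟶ P'} (hk₁ : h ≫ k = h') (hk₂ : i ≫ k = m ≫ i') :
    IsPullback m i i' k ↔ IsIso (prod.map (𝟙 U) m) := by
  constructor
  · exact isIso_prod_map_of_isPullback (closedCompl_of_isPushout hU H)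
      (closedCompl_of_isPushout hU H')
  · intro hm
    haveI := mono_prod_snd hU X'
    have := ((Adhesive.van_kampen' H') (prod.fst : U ⨯ X ⟶ U) prod.snd h i (prod.map (𝟙 U) m)
      (𝟙 U) m k (IsPullback.of_vert_isIso ⟨by simp [prod.lift_fst, prod.lift_snd, prod.map_fst, prod.map_snd]⟩) (isPullback_prod_map m)
      ⟨by simp [hk₁]⟩ ⟨hk₂⟩ H.toCommSq).1 H
    exact this.2.flip

/-- If `U ⨯ m` and `m_CU` are isomorphisms then so is `m`. -/
theorem isIso_of_isIso_parts (hU : SGA4.IsOpen U) {X X' P P' : E} {m : X ⟶ X'}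
    {h : U ⟶ P} {i : X ⟶ P} {h' : U ⟶ P'} {i' : X' ⟶ P'}
    (H : IsPushout (prod.fst : U ⨯ X ⟶ U) (prod.snd : U ⨯ X ⟶ X) h i)
    (H' : IsPushout (prod.fst : U ⨯ X' ⟶ U) (prod.snd : U ⨯ X' ⟶ X') h' i')
    {k : P ⟶ P'} (hk₂ : i ≫ k = m ≫ i') [IsIso (prod.map (𝟙 U) m)] [IsIso k] :
    IsIso m :=
  ((isPullback_iff_isIso_prod_map hU H H'
    (hom_ext_of_closed (closedCompl_of_isPushout hU H') (𝟙 U) _ _) hk₂).2
      inferInstance).isIso_fst_of_isIso

/-- The pullback of `j_*`-part along a map from the closed complement recovers that part. -/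
theorem isPushout_of_isPullback (hU : SGA4.IsOpen U) {X P Y G : E} {h : U ⟶ P} {i : X ⟶ P}
    (H : IsPushout (prod.fst : U ⨯ X ⟶ U) (prod.snd : U ⨯ X ⟶ X) h i)
    (hY : SGA4.closedCompl U Y) {a : Y ⟶ P} {p : G ⟶ Y} {q : G ⟶ X}
    (hG : IsPullback q p i a) :
    IsPushout (prod.fst : U ⨯ G ⟶ U) (prod.snd : U ⨯ G ⟶ G) (toClosed hY) p := by
  have hP := closedCompl_of_isPushout hU H
  haveI := mono_prod_snd hU X
  haveI : IsIso (prod.map (𝟙 U) q) := isIso_prod_map_of_isPullback hY hP hG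
  have w : toClosed hY ≫ a = h := hom_ext_of_closed hP (𝟙 U) _ _
  have hh : IsPullback (toClosed hY) (𝟙 U) a h :=
    IsPullback.mk' (by simp [w]) (fun T a b _ h₂ => by simpa [prod.lift_fst, prod.lift_snd, prod.map_fst, prod.map_snd] using h₂)
      (fun T a b _ => ⟨b, hom_ext_of_closed hY b _ _, by simp [prod.lift_fst, prod.lift_snd, prod.map_fst, prod.map_snd]⟩)
  exact ((Adhesive.van_kampen' H) (prod.fst : U ⨯ G ⟶ U) prod.snd (toClosed hY) p
    (prod.map (𝟙 U) q) (𝟙 U) q a (IsPullback.of_vert_isIso ⟨by simp [prod.lift_fst, prod.lift_snd, prod.map_fst, prod.map_snd]⟩) (isPullback_prod_map q)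
    hh.toCommSq hG.flip.toCommSq ⟨hom_ext_of_closed hY prod.fst _ _⟩).2 ⟨hh, hG.flip⟩

end Adhesive

end Groth.Agent.ToposLib
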