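/-
The reflector onto the closed complement of an open.
-/
import Groth.Agent.ToposLib.Open

universe u v

open CategoryTheory CategoryTheory.Limits

namespace Groth.Agent.ToposLib

variable {E : Type v} [Category.{u} E] [HasFiniteLimits E] [HasPushouts E] [Adhesive E]
variable {U : E}

/-- The functor `X ↦ U ⨿_{U ⨯ X} X`. -/
noncomputable def closedPart (U : E) : E ⥤ E where
  obj X := pushout (prod.fst : U ⨯ X ⟶ U) (prod.snd : U ⨯ X ⟶ X)
  map {X X'} f := pushout.map _ _ _ _ (𝟙 U) f (prod.map (𝟙 U) f)
    (prod.map_fst _ _).symm (prod.map_snd _ _).symm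
  map_id X := pushout.hom_ext
    (by rw [pushout.inl_desc, Category.id_comp]; exact (Category.comp_id _).symm)
    (by rw [pushout.inr_desc, Category.id_comp]; exact (Category.comp_id _).symm)
  map_comp f g := pushout.hom_ext
    (by rw [pushout.inl_desc_assoc, Category.assoc, pushout.inl_desc, pushout.inl_desc]; simp)
    (by rw [pushout.inr_desc_assoc, Category.assoc, pushout.inr_desc, pushout.inr_desc]; simp)

/-- The map `U ⟶ U ⨿_{U ⨯ X} X`. -/
noncomputable def closedInl (U X : E) : U ⟶ (closedPart U).obj X := pushout.inl _ _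

/-- The map `X ⟶ U ⨿_{U ⨯ X} X`. -/
noncomputable def closedInr (U X : E) : X ⟶ (closedPart U).obj X := pushout.inr _ _

@[reassoc]
theorem closedInl_map (U : E) {X X' : E} (f : X ⟶ X') :
    closedInl U X ≫ (closedPart U).map f = closedInl U X' :=
  (pushout.inl_desc _ _ _).trans (Category.id_comp _)

@[reassoc]
theorem closedInr_map (U : E) {X X' : E} (f : X ⟶ X') :
    closedInr U X ≫ (closedPart U).map f = f ≫ closedInr U X' :=
  pushout.inr_desc _ _ _

theorem closedPart_hom_ext (U : E) {X Z : E} {a b : (closedPart U).obj X ⟶ Z}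
    (h₁ : closedInl U X ≫ a = closedInl U X ≫ b) (h₂ : closedInr U X ≫ a = closedInr U X ≫ b) :
    a = b :=
  pushout.hom_ext h₁ h₂

theorem closedPart_isPushout (U X : E) :
    IsPushout (prod.fst : U ⨯ X ⟶ U) (prod.snd : U ⨯ X ⟶ X)
      (closedInl U X) (closedInr U X) :=
  IsPushout.of_hasPushout _ _

theorem closedPart_mem (hU : SGA4.IsOpen U) (X : E) :
    SGA4.closedCompl U ((closedPart U).obj X) :=
  closedCompl_of_isPushout hU (closedPart_isPushout U X)

/-- The reflector onto the closed complement. -/
noncomputable def reflector (hU : SGA4.IsOpen U) :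
    E ⥤ (SGA4.closedCompl U).FullSubcategory :=
  (SGA4.closedCompl U).lift (closedPart U) (closedPart_mem hU)

/-- Maps out of the pushout into an object of the closed complement. -/
noncomputable def closedPartHomEquiv (X : E) (Y : (SGA4.closedCompl U).FullSubcategory) :
    ((closedPart U).obj X ⟶ Y.obj) ≃ (X ⟶ Y.obj) where
  toFun f := pushout.inr _ _ ≫ f
  invFun g := pushout.desc (toClosed Y.property) g
    (hom_ext_of_closed Y.property (prod.fst : U ⨯ X ⟶ U) _ _)
  left_inv f := pushout.hom_ext (hom_ext_of_closed Y.property (𝟙 U) _ _) (pushout.inr_desc _ _ _)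
  right_inv g := pushout.inr_desc _ _ _

/-- The reflector is left adjoint to the inclusion. -/
noncomputable def reflectorAdj (hU : SGA4.IsOpen U) :
    reflector hU ⊣ (SGA4.closedCompl U).ι :=
  Adjunction.mkOfHomEquiv
    { homEquiv := fun X Y =>
        ((SGA4.closedCompl U).fullyFaithfulι.homEquiv).trans (closedPartHomEquiv X Y)
      homEquiv_naturality_left_symm := fun {X' X Y} f g =>
        (SGA4.closedCompl U).ι.map_injective
          (pushout.hom_ext (hom_ext_of_closed Y.property (𝟙 U) _ _)
            ((pushout.inr_desc _ _ _).trans (by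
              change f ≫ g = pushout.inr _ _ ≫ (closedPart U).map f ≫
                pushout.desc (toClosed Y.property) g _
              dsimp [closedPart, pushout.map]
              rw [pushout.inr_desc_assoc, Category.assoc, pushout.inr_desc])))
      homEquiv_naturality_right := fun f g => (Category.assoc _ _ _).symm }

theorem reflectorAdj_unit_app (hU : SGA4.IsOpen U) (X : E) :
    (reflectorAdj hU).unit.app X = pushout.inr _ _ := by
  change pushout.inr _ _ ≫ 𝟙 _ = _
  exact Category.comp_id _

section

variable (hU : SGA4.IsOpen U) {L : E ⥤ (SGA4.closedCompl U).FullSubcategory}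
  (adj : L ⊣ (SGA4.closedCompl U).ι)

include hU in
/-- The unit of any such adjunction is the pushout map. -/
theorem isPushout_unit (X : E) :
    IsPushout (prod.fst : U ⨯ X ⟶ U) (prod.snd : U ⨯ X ⟶ X)
      (toClosed (L.obj X).property) (adj.unit.app X) := by
  let e := (SGA4.closedCompl U).ι.mapIso (((reflectorAdj hU).leftAdjointUniq adj).app X)
  have he : (pushout.inr (prod.fst : U ⨯ X ⟶ U) prod.snd) ≫ e.hom = adj.unit.app X := by
    rw [← reflectorAdj_unit_app hU X]
    exact Adjunction.unit_leftAdjointUniq_hom_app _ _ X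
  exact (closedPart_isPushout U X).of_iso (Iso.refl _) (Iso.refl _) (Iso.refl _) e
    (by simp) (by simp) (hom_ext_of_closed (L.obj X).property (𝟙 U) _ _)
    (he.trans (Category.id_comp _).symm)

include hU in
/-- A pushout map transposes to an isomorphism. -/
theorem isIso_transpose {X : E} {Y : (SGA4.closedCompl U).FullSubcategory} {h : U ⟶ Y.obj}
    {g : X ⟶ (SGA4.closedCompl U).ι.obj Y}
    (H : IsPushout (prod.fst : U ⨯ X ⟶ U) (prod.snd : U ⨯ X ⟶ X) h g) :
    IsIso ((adj.homEquiv X Y).symm g) := by
  have hg : adj.unit.app X ≫ (SGA4.closedCompl U).ι.map ((adj.homEquiv X Y).symm g) = g := by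
    exact (adj.homEquiv_unit X Y _).symm.trans ((adj.homEquiv X Y).apply_symm_apply g)
  let d : Y.obj ⟶ (L.obj X).obj := H.desc (toClosed (L.obj X).property) (adj.unit.app X)
    (isPushout_unit hU adj X).w
  refine ⟨ObjectProperty.homMk d, (adj.homEquiv X (L.obj X)).injective ?_,
    (SGA4.closedCompl U).ι.map_injective (H.hom_ext ?_ ?_)⟩
  · rw [adj.homEquiv_unit, adj.homEquiv_unit, Functor.map_comp, reassoc_of% hg]
    refine Eq.trans ?_ (Category.comp_id _).symm
    exact H.inr_desc _ _ _
  · exact hom_ext_of_closed Y.property (𝟙 U) _ _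
  · change g ≫ d ≫ (SGA4.closedCompl U).ι.map ((adj.homEquiv X Y).symm g) = g ≫ 𝟙 _
    rw [H.inr_desc_assoc, hg, Category.comp_id]

theorem unit_naturality' {X X' : E} (m : X ⟶ X') :
    adj.unit.app X ≫ (SGA4.closedCompl U).ι.map (L.map m) = m ≫ adj.unit.app X' :=
  (adj.unit.naturality m).symm

include hU in
theorem isPullback_unit {X X' : E} (m : X ⟶ X') [IsIso (prod.map (𝟙 U) m)] :
    IsPullback m (adj.unit.app X) (adj.unit.app X') ((SGA4.closedCompl U).ι.map (L.map m)) :=
  (isPullback_iff_isIso_prod_map hU (isPushout_unit hU adj X) (isPushout_unit hU adj X')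
    (hom_ext_of_closed (L.obj X').property (𝟙 U) _ _) (unit_naturality' adj m)).2 inferInstance

include hU adj in
theorem isIso_of_isIso_map {X X' : E} (m : X ⟶ X') [IsIso (prod.map (𝟙 U) m)] [IsIso (L.map m)] :
    IsIso m := by
  haveI : IsIso ((SGA4.closedCompl U).ι.map (L.map m)) := inferInstance
  exact (isPullback_unit hU adj m).isIso_fst_of_isIso

theorem isIso_star_map_iff {X X' : E} (m : X ⟶ X') :
    IsIso ((Over.star U).map m) ↔ IsIso (prod.map (𝟙 U) m) := by
  constructor
  · intro h
    have := (inferInstance : IsIso ((Over.forget U).map ((Over.star U).map m)))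
    have e : ((Over.star U).map m).left = prod.map (𝟙 U) m := Over.star_map_left U m
    exact (congrArg (fun t : U ⨯ X ⟶ U ⨯ X' => IsIso t) e).mp this
  · intro h
    haveI : IsIso ((Over.forget U).map ((Over.star U).map m)) := by
      have e : ((Over.star U).map m).left = prod.map (𝟙 U) m := Over.star_map_left U m
      exact (congrArg (fun t : U ⨯ X ⟶ U ⨯ X' => IsIso t) e).mpr h
    exact isIso_of_reflects_iso _ (Over.forget U)

end

end Groth.Agent.ToposLib
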