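/-
The reflector onto the closed complement of an open of a sheaf topos is left exact.
-/
import Groth.Agent.ToposLib.Reflect

universe u

open CategoryTheory CategoryTheory.Limits Opposite

namespace Groth.Agent.ToposLib

theorem preservesLimitsOfShape_of_terminal_values {A : Type*} [Category A] {B : Type*}
    [Category B] (G : A ⥤ B) (h : ∀ a, Nonempty (IsTerminal (G.obj a)))
    (K : Type*) [Category K] : PreservesLimitsOfShape K G :=
  ⟨fun {D} => ⟨fun {c} _ => ⟨
    { lift := fun _ => (h c.pt).some.from _
      fac := fun _ j => (h (D.obj j)).some.hom_ext _ _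
      uniq := fun _ _ _ => (h c.pt).some.hom_ext _ _ }⟩⟩⟩

theorem isIso_snd_of_isTerminal {B : Type*} [Category B] [HasBinaryProducts B] {A : B}
    (hA : IsTerminal A) (X : B) : IsIso (prod.snd : A ⨯ X ⟶ X) :=
  ⟨prod.lift (hA.from X) (𝟙 X),
    prod.hom_ext (hA.hom_ext _ _) (by simp [prod.lift_snd]), prod.lift_snd _ _⟩

variable {C : Type u} [SmallCategory C]

theorem closedPart_eval_preservesFiniteLimits {U₀ : Cᵒᵖ ⥤ Type u} (hU : SGA4.IsOpen U₀)
    (c : Cᵒᵖ) :
    PreservesFiniteLimits (closedPart U₀ ⋙ (evaluation Cᵒᵖ (Type u)).obj c) := by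
  let ev := (evaluation Cᵒᵖ (Type u)).obj c
  have hsub : Subsingleton (U₀.obj c) := ⟨fun a b => by
    let f : yoneda.obj (unop c) ⟶ U₀ := yonedaEquiv.symm a
    let g : yoneda.obj (unop c) ⟶ U₀ := yonedaEquiv.symm b
    exact yonedaEquiv.symm.injective (open_hom_ext hU f g)⟩
  have hp : ∀ X, IsPushout (ev.map (prod.fst : U₀ ⨯ X ⟶ U₀)) (ev.map prod.snd)
      (ev.map (closedInl U₀ X)) (ev.map (closedInr U₀ X)) := fun X =>
    (closedPart_isPushout U₀ X).map ev
  by_cases hne : Nonempty (U₀.obj c)
  · obtain ⟨u₀⟩ := hne
    have hT : IsTerminal (U₀.obj c) :=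
      IsTerminal.ofUniqueHom (fun _ => ↾fun _ => u₀)
        (fun _ _ => by ext x; exact Subsingleton.elim _ _)
    refine ⟨fun K _ _ => preservesLimitsOfShape_of_terminal_values _ (fun X => ?_) K⟩
    haveI : IsIso (ev.map (prod.snd : U₀ ⨯ X ⟶ X)) := by
      haveI := isIso_snd_of_isTerminal (A := ev.obj U₀) hT (ev.obj X)
      rw [← prodComparison_snd ev]
      infer_instance
    haveI := (hp X).isIso_inl_of_isIso
    exact ⟨hT.ofIso (asIso (ev.map (closedInl U₀ X)))⟩
  · have hem : IsEmpty (U₀.obj c) := not_nonempty_iff.1 hne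
    haveI : ∀ X, IsIso (ev.map (prod.fst : U₀ ⨯ X ⟶ U₀)) := fun X =>
      (isIso_iff_bijective _).2 ⟨fun a _ _ => hem.elim ((prod.fst : U₀ ⨯ X ⟶ U₀).app c a),
        fun b => hem.elim b⟩
    haveI : ∀ X, IsIso (ev.map (closedInr U₀ X)) := fun X =>
      (hp X).isIso_inr_of_isIso
    exact preservesFiniteLimits_of_natIso (F := ev)
      (NatIso.ofComponents
        (fun X => asIso (ev.map (closedInr U₀ X))) (fun f => by
          change ev.map f ≫ ev.map _ = ev.map _ ≫ ev.map ((closedPart U₀).map f)
          rw [← ev.map_comp, ← ev.map_comp]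
          congr 1
          exact (closedInr_map U₀ f).symm))

theorem closedPart_presheaf_preservesFiniteLimits {U₀ : Cᵒᵖ ⥤ Type u} (hU : SGA4.IsOpen U₀) :
    PreservesFiniteLimits (closedPart U₀) :=
  ⟨fun K _ _ => preservesLimitsOfShape_of_evaluation _ K fun c => by
    haveI := closedPart_eval_preservesFiniteLimits hU c
    infer_instance⟩

variable {J : GrothendieckTopology C} (U : Sheaf J (Type u))

theorem isOpen_presheaf (hU : SGA4.IsOpen U) : SGA4.IsOpen ((sheafToPresheaf J _).obj U) := by
  haveI : Mono (terminal.from U) := hU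
  exact ⟨fun a b _ => by
    let A := (sheafificationAdjunction J (Type u))
    exact (A.homEquiv _ U).symm.injective (open_hom_ext hU _ _)⟩

theorem prod_condition (X : Sheaf J (Type u)) :
    (prod.fst : (sheafToPresheaf J _).obj U ⨯ (sheafToPresheaf J _).obj X ⟶ _) ≫
        (sheafToPresheaf J _).map (closedInl U X) =
      (prod.snd : (sheafToPresheaf J _).obj U ⨯ (sheafToPresheaf J _).obj X ⟶ _) ≫
        (sheafToPresheaf J _).map (closedInr U X) := by
  let i := sheafToPresheaf J (Type u)
  rw [← cancel_epi (prodComparison i U X), prodComparison_fst_assoc, prodComparison_snd_assoc,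
    ← i.map_comp, ← i.map_comp, (closedPart_isPushout U X).w]

/-- The comparison from the presheaf pushout. -/
noncomputable def closedPartComparison (X : Sheaf J (Type u)) :
    (closedPart ((sheafToPresheaf J _).obj U)).obj ((sheafToPresheaf J _).obj X) ⟶
      (sheafToPresheaf J _).obj ((closedPart U).obj X) :=
  pushout.desc _ _ (prod_condition U X)

@[reassoc]
theorem closedPartComparison_inl (X : Sheaf J (Type u)) :
    closedInl _ ((sheafToPresheaf J _).obj X) ≫ closedPartComparison U X =
      (sheafToPresheaf J _).map (closedInl U X) :=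
  pushout.inl_desc _ _ _

@[reassoc]
theorem closedPartComparison_inr (X : Sheaf J (Type u)) :
    closedInr _ ((sheafToPresheaf J _).obj X) ≫ closedPartComparison U X =
      (sheafToPresheaf J _).map (closedInr U X) :=
  pushout.inr_desc _ _ _

/-- The comparison as a natural transformation of endofunctors of sheaves. -/
noncomputable def closedPartSheafify :
    sheafToPresheaf J _ ⋙ closedPart ((sheafToPresheaf J _).obj U) ⋙ presheafToSheaf J _ ⟶
      closedPart U where
  app X := ((sheafificationAdjunction J _).homEquiv _ _).symm (closedPartComparison U X)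
  naturality {X Y} f := by
    dsimp only [Functor.comp_map]
    rw [← Adjunction.homEquiv_naturality_left_symm, ← Adjunction.homEquiv_naturality_right_symm]
    congr 1
    refine closedPart_hom_ext _ ?_ ?_
    · rw [closedInl_map_assoc, closedPartComparison_inl, closedPartComparison_inl_assoc,
        ← Functor.map_comp, closedInl_map]
    · rw [closedInr_map_assoc, closedPartComparison_inr, closedPartComparison_inr_assoc,
        ← Functor.map_comp, ← Functor.map_comp, closedInr_map]

theorem isIso_closedPartSheafify (X : Sheaf J (Type u)) :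
    IsIso ((closedPartSheafify U).app X) := by
  let A := sheafificationAdjunction J (Type u)
  let i := sheafToPresheaf J (Type u)
  let a := presheafToSheaf J (Type u)
  have h₁ := (closedPart_isPushout (i.obj U) (i.obj X)).map a
  let eU : U ≅ a.obj (i.obj U) := (asIso (A.counit.app U)).symm
  let eX : X ≅ a.obj (i.obj X) := (asIso (A.counit.app X)).symm
  let eP : U ⨯ X ≅ a.obj (i.obj U ⨯ i.obj X) :=
    (asIso (A.counit.app (U ⨯ X))).symm ≪≫ a.mapIso (asIso (prodComparison i U X))
  have h₂ : IsPushout (a.map (prod.fst : i.obj U ⨯ i.obj X ⟶ _)) (a.map prod.snd)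
      (A.counit.app U ≫ closedInl U X)
      (A.counit.app X ≫ closedInr U X) := by
    refine (closedPart_isPushout U X).of_iso eP eU eX (Iso.refl _) ?_ ?_ ?_ ?_
    · simp only [eP, eU, Iso.trans_hom, Iso.symm_hom, asIso_inv, Functor.mapIso_hom, asIso_hom,
        Category.assoc, IsIso.comp_inv_eq, IsIso.eq_inv_comp, ← Functor.map_comp,
        prodComparison_fst]
      rw [← Category.assoc, IsIso.comp_inv_eq]
      exact (A.counit.naturality _).symm
    · simp only [eP, eX, Iso.trans_hom, Iso.symm_hom, asIso_inv, Functor.mapIso_hom, asIso_hom,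
        Category.assoc, IsIso.comp_inv_eq, IsIso.eq_inv_comp, ← Functor.map_comp,
        prodComparison_snd]
      rw [← Category.assoc, IsIso.comp_inv_eq]
      exact (A.counit.naturality _).symm
    · simp [eU, closedPart]
    · simp [eX, closedPart]
  have key : (closedPartSheafify U).app X = (h₁.isoIsPushout _ _ h₂).hom := by
    refine h₁.hom_ext ?_ ?_ <;>
    · change _ ≫ (A.homEquiv _ _).symm _ = _
      rw [← Adjunction.homEquiv_naturality_left_symm]
      simp only [IsPushout.inl_isoIsPushout_hom, IsPushout.inr_isoIsPushout_hom]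
      first
        | exact (congrArg (A.homEquiv _ _).symm (closedPartComparison_inl U X)).trans
            ((A.homEquiv_counit _ _ _).trans (A.counit.naturality _))
        | exact (congrArg (A.homEquiv _ _).symm (closedPartComparison_inr U X)).trans
            ((A.homEquiv_counit _ _ _).trans (A.counit.naturality _))
  rw [key]
  infer_instance

theorem closedPart_preservesFiniteLimits (hU : SGA4.IsOpen U) :
    PreservesFiniteLimits (closedPart U) := by
  haveI := closedPart_presheaf_preservesFiniteLimits (isOpen_presheaf U hU)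
  haveI := fun X => isIso_closedPartSheafify U X
  haveI := comp_preservesFiniteLimits (closedPart ((sheafToPresheaf J (Type u)).obj U))
    (presheafToSheaf J (Type u))
  haveI := comp_preservesFiniteLimits (sheafToPresheaf J (Type u))
    (closedPart ((sheafToPresheaf J (Type u)).obj U) ⋙ presheafToSheaf J (Type u))
  exact preservesFiniteLimits_of_natIso (NatIso.ofComponents
    (fun X => asIso ((closedPartSheafify U).app X))
    (fun f => (closedPartSheafify U).naturality f))

theorem reflector_preservesFiniteLimits (hU : SGA4.IsOpen U) :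
    PreservesFiniteLimits (reflector hU) := by
  haveI : PreservesFiniteLimits (reflector hU ⋙ (SGA4.closedCompl U).ι) :=
    closedPart_preservesFiniteLimits U hU
  exact ⟨fun K _ _ =>
    preservesLimitsOfShape_of_reflects_of_preserves (reflector hU) (SGA4.closedCompl U).ι⟩

end Groth.Agent.ToposLib
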