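/-
Gluing a sheaf topos from an open subtopos and its closed complement.
-/
import Groth.Agent.ToposLib.Reflect

universe u v

open CategoryTheory CategoryTheory.Limits

namespace Groth.Agent.ToposLib

variable {E : Type v} [Category.{u} E] [HasFiniteLimits E] [HasPushouts E] [Adhesive E]
variable {U : E} (hU : SGA4.IsOpen U) [(Over.star U).IsLeftAdjoint]
  {L : E ⥤ (SGA4.closedCompl U).FullSubcategory} (adj : L ⊣ (SGA4.closedCompl U).ι)

include hU in
theorem fullyFaithful_forget : Nonempty (Over.forget U).FullyFaithful :=
  ⟨{ preimage := fun f => Over.homMk f (open_hom_ext hU _ _)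
     map_preimage := fun _ => rfl
     preimage_map := fun _ => Over.OverMorphism.ext rfl }⟩

include hU in
theorem isIso_starCounit :
    IsIso (Adjunction.ofIsLeftAdjoint (Over.star U)).counit := by
  let t : Adjunction.Triple (Over.forget U) (Over.star U) (Over.star U).rightAdjoint :=
    ⟨Over.forgetAdjStar U, Adjunction.ofIsLeftAdjoint (Over.star U)⟩
  obtain ⟨ff⟩ := fullyFaithful_forget hU
  haveI := ff.full
  haveI := ff.faithful
  rw [← t.isIso_unit_iff_isIso_counit]
  infer_instance

include hU in
theorem isIso_prod_map_starUnit (X : E) :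
    IsIso (prod.map (𝟙 U) ((Adjunction.ofIsLeftAdjoint (Over.star U)).unit.app X)) := by
  haveI := isIso_starCounit hU
  let A := Adjunction.ofIsLeftAdjoint (Over.star U)
  haveI : IsIso ((Over.star U).map (A.unit.app X) ≫ A.counit.app ((Over.star U).obj X)) := by
    have h := A.left_triangle_components X
    exact (congrArg (fun t : (Over.star U).obj X ⟶ (Over.star U).obj X => IsIso t) h).mpr
      inferInstance
  haveI : IsIso ((Over.star U).map (A.unit.app X)) :=
    IsIso.of_isIso_comp_right _ (A.counit.app ((Over.star U).obj X))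
  exact (isIso_star_map_iff _).1 inferInstance

/-- `X ↦ (i^*X, j^*X, i^*(X → j_*j^*X))`. -/
noncomputable def glueFunctor :
    E ⥤ Comma (𝟭 (SGA4.closedCompl U).FullSubcategory) ((Over.star U).rightAdjoint ⋙ L) where
  obj X :=
    { left := L.obj X
      right := (Over.star U).obj X
      hom := L.map ((Adjunction.ofIsLeftAdjoint (Over.star U)).unit.app X) }
  map {X X'} f :=
    { left := L.map f
      right := (Over.star U).map f
      w := by
        change L.map f ≫ L.map _ = L.map _ ≫ L.map ((Over.star U).rightAdjoint.map _)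
        rw [← L.map_comp, ← L.map_comp]
        exact congrArg L.map ((Adjunction.ofIsLeftAdjoint (Over.star U)).unit.naturality f) }
  map_id X := CommaMorphism.ext (L.map_id X) ((Over.star U).map_id X)
  map_comp f g := CommaMorphism.ext (L.map_comp f g) ((Over.star U).map_comp f g)

include hU adj in
/-- Every object is the fibre product of its parts. -/
theorem isPullback_parts (X : E) :
    IsPullback ((Adjunction.ofIsLeftAdjoint (Over.star U)).unit.app X) (adj.unit.app X)
      (adj.unit.app _)
      ((SGA4.closedCompl U).ι.map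
        (L.map ((Adjunction.ofIsLeftAdjoint (Over.star U)).unit.app X))) := by
  haveI := isIso_prod_map_starUnit hU X
  exact isPullback_unit hU adj _

include hU adj in
theorem glueFunctor_faithful : (glueFunctor (U := U) (L := L)).Faithful := by
  refine ⟨fun {X' X} m₁ m₂ h => (isPullback_parts hU adj X).hom_ext ?_ ?_⟩
  · have hr : (Over.star U).map m₁ = (Over.star U).map m₂ := congrArg CommaMorphism.right h
    let A := Adjunction.ofIsLeftAdjoint (Over.star U)
    exact (A.unit.naturality m₁).trans ((congrArg (fun t => A.unit.app X' ≫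
      (Over.star U).rightAdjoint.map t) hr).trans (A.unit.naturality m₂).symm)
  · have hl : L.map m₁ = L.map m₂ := congrArg CommaMorphism.left h
    exact (adj.unit.naturality m₁).trans ((congrArg (fun t => adj.unit.app X' ≫
      (SGA4.closedCompl U).ι.map t) hl).trans (adj.unit.naturality m₂).symm)

include hU adj in
theorem glueFunctor_full : (glueFunctor (U := U) (L := L)).Full := by
  refine ⟨fun {X' X} φ => ?_⟩
  let A := Adjunction.ofIsLeftAdjoint (Over.star U)
  let a : L.obj X' ⟶ L.obj X := φ.left
  let b : (Over.star U).obj X' ⟶ (Over.star U).obj X := φ.right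
  have hw : a ≫ L.map (A.unit.app X) =
      L.map (A.unit.app X') ≫ L.map ((Over.star U).rightAdjoint.map b) := φ.w
  have cond : (A.unit.app X' ≫ (Over.star U).rightAdjoint.map b) ≫ adj.unit.app _ =
      (adj.unit.app X' ≫ (SGA4.closedCompl U).ι.map a) ≫
        (SGA4.closedCompl U).ι.map (L.map (A.unit.app X)) := by
    rw [← L.map_comp] at hw
    refine ((unit_naturality' adj (A.unit.app X' ≫ (Over.star U).rightAdjoint.map b)).symm).trans ?_
    refine Eq.trans ?_ (Category.assoc _ _ _).symm
    exact congrArg (adj.unit.app X' ≫ ·)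
      ((congrArg (SGA4.closedCompl U).ι.map hw.symm).trans
        ((SGA4.closedCompl U).ι.map_comp a (L.map (A.unit.app X))))
  let m : X' ⟶ X := (isPullback_parts hU adj X).lift _ _ cond
  refine ⟨m, CommaMorphism.ext ?_ ?_⟩
  · change L.map m = a
    refine (adj.homEquiv X' (L.obj X)).injective ?_
    rw [adj.homEquiv_unit, adj.homEquiv_unit]
    exact (unit_naturality' adj m).trans ((isPullback_parts hU adj X).lift_snd _ _ cond)
  · change (Over.star U).map m = b
    refine (A.homEquiv X' _).injective ?_
    rw [A.homEquiv_unit, A.homEquiv_unit]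
    exact (A.unit.naturality m).symm.trans ((isPullback_parts hU adj X).lift_fst _ _ cond)

include hU adj in
theorem glueFunctor_essSurj : (glueFunctor (U := U) (L := L)).EssSurj := by
  refine ⟨fun D => ?_⟩
  let A := Adjunction.ofIsLeftAdjoint (Over.star U)
  haveI := isIso_starCounit hU
  let Y : (SGA4.closedCompl U).FullSubcategory := D.left
  let Z : Over U := D.right
  let X : E := (Over.star U).rightAdjoint.obj Z
  let f : Y ⟶ L.obj X := D.hom
  let a : (SGA4.closedCompl U).ι.obj Y ⟶ (SGA4.closedCompl U).ι.obj (L.obj X) :=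
    (SGA4.closedCompl U).ι.map f
  let G : E := pullback (adj.unit.app X) a
  let q : G ⟶ X := pullback.fst _ _
  let p : G ⟶ (SGA4.closedCompl U).ι.obj Y := pullback.snd _ _
  have hG : IsPullback q p (adj.unit.app X) a := IsPullback.of_hasPullback _ _
  have hP := isPushout_of_isPullback hU (isPushout_unit hU adj X) Y.property hG
  haveI : IsIso ((adj.homEquiv G Y).symm p) := isIso_transpose hU adj hP
  haveI : IsIso (prod.map (𝟙 U) q) :=
    isIso_prod_map_of_isPullback Y.property (L.obj X).property hG
  haveI : IsIso ((Over.star U).map q) := (isIso_star_map_iff q).2 inferInstance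
  haveI : IsIso ((A.homEquiv G Z).symm q) := by
    rw [A.homEquiv_counit]
    exact IsIso.comp_isIso
  refine ⟨G, ⟨Comma.isoMk (@asIso _ _ (L.obj G) Y ((adj.homEquiv G Y).symm p) ‹_›)
    (@asIso _ _ ((Over.star U).obj G) Z ((A.homEquiv G Z).symm q) ‹_›) ?_⟩⟩
  change (adj.homEquiv G Y).symm p ≫ f =
    L.map (A.unit.app G) ≫ L.map ((Over.star U).rightAdjoint.map ((A.homEquiv G Z).symm q))
  have hq : A.unit.app G ≫ (Over.star U).rightAdjoint.map ((A.homEquiv G Z).symm q) = q :=
    (A.homEquiv_unit G Z _).symm.trans ((A.homEquiv G Z).apply_symm_apply q)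
  rw [← L.map_comp, hq]
  refine (adj.homEquiv G (L.obj X)).injective ?_
  rw [adj.homEquiv_naturality_right, Equiv.apply_symm_apply, adj.homEquiv_unit]
  exact (hG.w.symm).trans (unit_naturality' adj q).symm

include hU adj in
theorem glueEquivalence :
    Nonempty (E ≌ Comma (𝟭 (SGA4.closedCompl U).FullSubcategory)
      ((Over.star U).rightAdjoint ⋙ L)) := by
  haveI := glueFunctor_faithful hU adj
  haveI := glueFunctor_full hU adj
  haveI := glueFunctor_essSurj hU adj
  haveI : (glueFunctor (U := U) (L := L)).IsEquivalence := {}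
  exact ⟨(glueFunctor (U := U) (L := L)).asEquivalence⟩

end Groth.Agent.ToposLib
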